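import Mathlib.Algebra.MonoidAlgebra.Basic
import Mathlib.RingTheory.Ideal.Maximal
import Mathlib.RingTheory.Ideal.Maps
import Mathlib.Algebra.Order.Monoid.Canonical.Defs

/-! Graded Nakayama for coactions of the multiplicative monoid of the affine line. -/

universe u

namespace Groth.Agent.MagnetLib.GradedIso

open MonoidAlgebra Multiplicative

/-- A coaction of the affine line monoid: components add up, and each component is homogeneous. -/
structure IsCoaction {A : Type u} [CommRing A] (σ : A →+* MonoidAlgebra A (Multiplicative ℕ)) : Prop where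
  counit : ∀ v, (σ v).coeff.sum (fun _ r => r) = v
  coassoc : ∀ v m, σ ((σ v).coeff m) = single m ((σ v).coeff m)

variable {A B : Type u} [CommRing A] [CommRing B] {σA : A →+* MonoidAlgebra A (Multiplicative ℕ)}
  {σB : B →+* MonoidAlgebra B (Multiplicative ℕ)}

theorem coeff_mul_mem (S : AddSubmonoid A) (v w : A) (m : Multiplicative ℕ)
    (h : ∀ a b, a * b = m → (σA v).coeff a * (σA w).coeff b ∈ S) : (σA (v * w)).coeff m ∈ S := by
  classical
  rw [map_mul, coeff_mul]
  refine S.sum_mem fun a _ => S.sum_mem fun b _ => ?_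
  dsimp only
  split_ifs with hab
  · exact h a b hab
  · exact S.zero_mem

theorem injective (hB : IsCoaction σB) (φ : B →+* A) (hφ : ∀ b m, (σA (φ b)).coeff m = φ ((σB b).coeff m))
    (hflat : ∀ j, φ j = 0 → ∀ p : Ideal B, p.IsPrime → ∃ s, s * j = 0 ∧ (σB s).coeff 1 ∉ p) :
    Function.Injective φ := by
  refine (injective_iff_map_eq_zero φ).mpr fun j hj => ?_
  rw [← hB.counit j]
  refine Finset.sum_eq_zero fun m _ => ?_
  set d := (σB j).coeff m with hd
  have hφd : φ d = 0 := by rw [hd, ← hφ, hj, map_zero]; rfl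
  let I : Ideal B := Submodule.span B {d} |>.annihilator
  have hI : I = ⊤ := by
    by_contra hI
    obtain ⟨p, hp, hIp⟩ := Ideal.exists_le_maximal I hI
    obtain ⟨s, hs, hsp⟩ := hflat d hφd p hp.isPrime
    refine hsp (hIp ?_)
    rw [Submodule.mem_annihilator_span_singleton, smul_eq_mul]
    have h0 := congrArg (fun v => (σB v).coeff m) hs
    simp only [map_mul, map_zero, hd, hB.coassoc j m] at h0
    have h1 : (σB s * single m ((σB j).coeff m)).coeff m = (σB s).coeff 1 * (σB j).coeff m :=
      coeff_mul_single_eq_coeff_mul _ fun m' _ => by simp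
    rw [h1] at h0
    exact h0.trans rfl
  have h1 : (1 : B) ∈ I := hI ▸ trivial
  rw [Submodule.mem_annihilator_span_singleton, one_smul] at h1
  exact h1

theorem surjective (hA : IsCoaction σA) (hB : IsCoaction σB) (φ : B →+* A)
    (hφ : ∀ b m, (σA (φ b)).coeff m = φ ((σB b).coeff m))
    (ξ : A →+* B) (hξA : ∀ a, φ (ξ a) = (σA a).coeff 1)
    (hgen : ∀ a m, m ≠ 1 → (σA a).coeff m ∈ Ideal.span {x | ∃ b n, n ≠ 1 ∧ φ ((σB b).coeff n) = x}) :
    Function.Surjective φ := by
  classical
  intro a
  suffices h : ∀ (i : ℕ) (a : A), (σA a).coeff (ofAdd i) ∈ φ.range.toAddSubmonoid by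
    suffices h' : a ∈ φ.range.toAddSubmonoid from h'
    rw [← hA.counit a]
    exact AddSubmonoid.sum_mem _ fun m _ => h m.toAdd a
  intro i
  induction i using Nat.strong_induction_on with
  | _ i ih =>
    intro a
    rcases Nat.eq_zero_or_pos i with rfl | hi
    · exact ⟨ξ a, hξA a⟩
    have hm : ofAdd i ≠ (1 : Multiplicative ℕ) := fun h => hi.ne' (congrArg toAdd h)
    suffices hQ : ∀ e ∈ Ideal.span {x | ∃ b n, n ≠ 1 ∧ φ ((σB b).coeff n) = x},
        (σA e).coeff 1 = 0 ∧ ∀ k ≤ i, (σA e).coeff (ofAdd k) ∈ φ.range.toAddSubmonoid by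
      have h2 := (hQ _ (hgen a _ hm)).2 i le_rfl
      rw [hA.coassoc, coeff_single, Finsupp.single_eq_same] at h2
      exact h2
    intro e he
    induction he using Submodule.span_induction with
    | mem x hx =>
      obtain ⟨b, n, hn, rfl⟩ := hx
      refine ⟨?_, fun k _ => ⟨_, (hφ _ _).symm⟩⟩
      rw [hφ, hB.coassoc, coeff_single, Finsupp.single_eq_of_ne (Ne.symm hn), map_zero]
    | zero => exact ⟨by simp, fun k _ => by simp⟩
    | add x y _ _ hx hy =>
      refine ⟨by simp [hx.1, hy.1], fun k hk => ?_⟩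
      simp only [map_add, coeff_add, Finsupp.add_apply]
      exact AddSubmonoid.add_mem _ (hx.2 k hk) (hy.2 k hk)
    | smul c x _ hx =>
      refine ⟨?_, fun k hk => ?_⟩
      · refine (AddSubmonoid.mem_bot (x := (σA (c • x)).coeff 1)).mp ?_
        refine coeff_mul_mem ⊥ c x 1 fun p q hpq => ?_
        have hq : q = 1 := toAdd.injective (by
          have := congrArg toAdd hpq
          simp only [toAdd_mul, toAdd_one] at this ⊢
          omega)
        rw [hq, hx.1, mul_zero]
        exact AddSubmonoid.zero_mem _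
      · refine coeff_mul_mem φ.range.toAddSubmonoid c x _ fun p q hpq => ?_
        have hsum : p.toAdd + q.toAdd = k := by simpa using congrArg toAdd hpq
        rcases Nat.eq_zero_or_pos q.toAdd with hq | hq
        · have hq1 : q = 1 := toAdd.injective hq
          rw [hq1, hx.1, mul_zero]
          exact AddSubmonoid.zero_mem _
        · exact φ.range.mul_mem (ih p.toAdd (by omega) c) (hx.2 q.toAdd (by omega))

end Groth.Agent.MagnetLib.GradedIso
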