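import Groth.Agent.MagnetLib.GradedIso
import Groth.Agent.H28.MagnetCrit
import Groth.Agent.H28.StableFace
import Groth.Agent.H28.FixedDesc

/-! Equivariant morphisms of locally linear schemes with an action of the monoid `A¹` which are isomorphisms on
fixed points and flat there are isomorphisms. -/

universe u

open CategoryTheory CategoryTheory.Limits MonoidalCategory CartesianMonoidalCategory MonObj AlgebraicGeometry
open Opposite Magnet

namespace Groth.Agent.MagnetLib.LimitIso

open H23.CharPts H23.AttrComapGrp H28 H28.MagnetAff H28.FixedDesc H28.StableFace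

variable {S : Scheme.{u}}

/-- The zero of the affine line monoid. -/
theorem exists_origin : ∃ o : 𝟙_ (Over S) ⟶ AMonS S ℕ, ∀ (T : Over S) (m : Multiplicative ℕ),
    chi (toUnit T ≫ o) m = if m = 1 then 1 else 0 := by
  classical
  obtain ⟨o, ho⟩ := exists_chi_eq (S := S) (T := 𝟙_ (Over S)) (M := ℕ)
    { toFun := fun m => if m = 1 then 1 else 0
      map_one' := if_pos rfl
      map_mul' := fun a b => by
        have h : a * b = 1 ↔ a = 1 ∧ b = 1 := by
          refine ⟨fun h => ?_, fun h => by rw [h.1, h.2, _root_.one_mul]⟩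
          have := congrArg Multiplicative.toAdd h
          simp only [toAdd_mul, toAdd_one, add_eq_zero] at this
          exact ⟨Multiplicative.toAdd.injective this.1, Multiplicative.toAdd.injective this.2⟩
        by_cases ha : a = 1 <;> by_cases hb : b = 1 <;> simp [ha, hb, h] }
  refine ⟨o, fun T m => ?_⟩
  rw [chi_comp, ho]
  simp only [MonoidHom.coe_mk, OneHom.coe_mk]
  split_ifs <;> simp

/-- The zero of the affine line monoid. -/
noncomputable def origin : 𝟙_ (Over S) ⟶ AMonS S ℕ := exists_origin.choose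

theorem chi_origin (T : Over S) (m : Multiplicative ℕ) [Decidable (m = 1)] :
    chi (toUnit T ≫ (origin : 𝟙_ (Over S) ⟶ AMonS S ℕ)) m = if m = 1 then 1 else 0 := by
  classical
  rw [origin, exists_origin.choose_spec T m]
  split_ifs <;> rfl

theorem chi_one {T : Over S} {M : Type} [AddCommMonoid M] (m : Multiplicative M) :
    chi (1 : T ⟶ AMonS S M) m = 1 := by
  rw [← eq_one_of_map_zero (1 : T ⟶ AMonS S M), chi_map]
  exact map_one _

theorem mul_origin {T : Over S} (g : T ⟶ AMonS S ℕ) : g * (toUnit T ≫ origin) = toUnit T ≫ origin := by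
  classical
  refine chi_injective (MonoidHom.ext fun m => ?_)
  rw [chi_mul, chi_origin]
  split_ifs with h
  · rw [h, map_one, _root_.one_mul]
  · rw [mul_zero]

theorem origin_mul {T : Over S} (g : T ⟶ AMonS S ℕ) : (toUnit T ≫ origin) * g = toUnit T ≫ origin := by
  classical
  refine chi_injective (MonoidHom.ext fun m => ?_)
  rw [chi_mul, chi_origin]
  split_ifs with h
  · rw [h, map_one, _root_.one_mul]
  · rw [zero_mul]

variable {X Y : Over S} (a : MonAct (AMonS S ℕ) X)

/-- The limit at the origin. -/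
noncomputable def lim : X ⟶ X := lift (toUnit X ≫ origin) (𝟙 X) ≫ a.act

theorem comp_lim {T : Over S} (x : T ⟶ X) : x ≫ lim a = lift (toUnit T ≫ origin) x ≫ a.act := by
  rw [lim, comp_lift_assoc, Category.comp_id, ← Category.assoc, comp_toUnit]

theorem isFixed_lim {T : Over S} (x : T ⟶ X) : IsFixed a (x ≫ lim a) := fun T' t g => by
  rw [← Category.assoc, comp_lim, ← MonAct.lift_mul_act, mul_origin]

theorem comp_lim_of_isFixed {T : Over S} {x : T ⟶ X} (h : IsFixed a x) : x ≫ lim a = x := by
  have := h T (𝟙 T) (toUnit T ≫ origin)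
  rw [Category.id_comp] at this
  rw [comp_lim, this]

theorem act_lim : a.act ≫ lim a = snd _ X ≫ lim a := by
  apply hom_ext_lift₂
  intro T g x
  rw [← Category.assoc, comp_lim, ← MonAct.lift_mul_act, origin_mul, lift_snd_assoc, comp_lim]

theorem lim_comp {b : MonAct (AMonS S ℕ) Y} {f : X ⟶ Y} (hf : MonAct.IsEquivariant a b f) :
    lim a ≫ f = f ≫ lim b := by
  rw [lim, Category.assoc, hf, comp_lim, lift_whiskerLeft_assoc, Category.id_comp]

/-- Stability of an open subscheme. -/
def Stable (U : X.left.Opens) : Prop := (snd (AMonS S ℕ) X).left ⁻¹ᵁ U ≤ a.act.left ⁻¹ᵁ U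

theorem lim_mem {U : X.left.Opens} (hs : Stable a U) {x : X.left} (hx : x ∈ U) : (lim a).left x ∈ U := by
  apply hs
  show (snd (AMonS S ℕ) X).left ((lift (toUnit X ≫ origin) (𝟙 X)).left x) ∈ U
  rw [← Scheme.Hom.comp_apply, ← Over.comp_left, lift_snd]
  exact hx

theorem mem_of_lim_mem {U : X.left.Opens} (hs : Stable a U) {x : X.left} (hx : (lim a).left x ∈ U) : x ∈ U := by
  let T := StableOpen.fieldPt X x
  let G := AMonS S ℤ
  let A := AMonS S ℕ
  have : IsAffine T.left := inferInstanceAs (IsAffine (Spec _))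
  let p : T ⟶ X := pt X x
  let φ : A ⊗ T ⟶ X := (A ◁ p) ≫ a.act
  let W : (A ⊗ T).left.Opens := φ.left ⁻¹ᵁ U
  let v₀ : T.left := IsLocalRing.closedPoint (X.left.residueField x)
  have hpt : ∀ v, p.left v = x := fun v => by
    have : p.left v ∈ Set.range (X.left.fromSpecResidueField x) := ⟨v, rfl⟩
    rwa [Scheme.range_fromSpecResidueField] at this
  have hne : ∃ z, z ∈ W := by
    refine ⟨(lift (toUnit T ≫ origin) (𝟙 T)).left v₀, ?_⟩
    show φ.left _ ∈ U
    rw [← Scheme.Hom.comp_apply, ← Over.comp_left,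
      show lift (toUnit T ≫ origin) (𝟙 T) ≫ φ = p ≫ lim a from by
        rw [comp_lim]
        show lift _ (𝟙 T) ≫ (AMonS S ℕ ◁ p) ≫ a.act = _
        rw [lift_whiskerLeft_assoc, Category.id_comp],
      Over.comp_left, Scheme.Hom.comp_apply, hpt]
    exact hx
  let j : ℕ →+ ℤ := Nat.castAddMonoidHom ℤ
  haveI : IsSchemeTheoreticallyDominant (AMonS.map S j ▷ T).left :=
    H23.AMonExt.stDominant_bc_map_affine (ULift.{u} ℤ) _ j Nat.cast_injective T
  haveI : QuasiCompact (AMonS.map S j ▷ T).left := by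
    have hL : ∀ (L : Type) [AddCommMonoid L], IsAffineHom (AMonS S L).hom := fun L _ => by
      haveI : IsAffine (AMon (ULift.{u} ℤ) L).left := inferInstanceAs (IsAffine (Spec _))
      have hA : IsAffineHom (AMon (ULift.{u} ℤ) L).hom := isAffineHom_of_isAffine _
      exact MorphismProperty.pullback_snd _ _ hA
    haveI := hL ℕ
    haveI := hL ℤ
    haveI : IsAffineHom (snd A T).left := inferInstanceAs (IsAffineHom (Limits.pullback.snd (AMonS S ℕ).hom T.hom))
    haveI : IsAffineHom (snd G T).left := inferInstanceAs (IsAffineHom (Limits.pullback.snd (AMonS S ℤ).hom T.hom))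
    haveI : IsAffineHom ((AMonS.map S j ▷ T).left ≫ (snd A T).left) := by
      rw [← Over.comp_left, whiskerRight_snd]
      infer_instance
    haveI : IsAffineHom (AMonS.map S j ▷ T).left := IsAffineHom.of_comp _ (snd A T).left
    infer_instance
  obtain ⟨y, hy⟩ := (AMonS.map S j ▷ T).left.denseRange.exists_mem_open W.2 hne
  let V := StableOpen.fieldPt (G ⊗ T) y
  let g : V ⟶ G := pt _ y ≫ fst G T
  let s : V ⟶ T := pt _ y ≫ snd G T
  have h1 : Lands (lift (g ≫ AMonS.map S j) (s ≫ p) ≫ a.act) U := fun v => by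
    have h2 : lift (g ≫ AMonS.map S j) (s ≫ p) ≫ a.act = pt _ y ≫ (AMonS.map S j ▷ T) ≫ φ := by
      simp only [φ, g, s, ← Category.assoc]
      congr 1
      apply CartesianMonoidalCategory.hom_ext <;> simp [A, G, Category.assoc]
    rw [h2, Over.comp_left, Scheme.Hom.comp_apply, Over.comp_left, Scheme.Hom.comp_apply]
    have : (pt (G ⊗ T) y).left v = y := by
      have : (pt (G ⊗ T) y).left v ∈ Set.range ((G ⊗ T).left.fromSpecResidueField y) := ⟨v, rfl⟩
      rwa [Scheme.range_fromSpecResidueField] at this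
    rw [this]
    exact hy
  obtain ⟨g', hg'⟩ := exists_chi_eq (S := S) (T := V) (M := ℤ)
    { toFun := fun m => chi g (Multiplicative.ofAdd (-m.toAdd))
      map_one' := by rw [show Multiplicative.toAdd (1 : Multiplicative ℤ) = 0 from rfl, neg_zero]; exact map_one _
      map_mul' := fun x y => by rw [← map_mul, ← ofAdd_add, toAdd_mul, neg_add] }
  have h5 : (g' ≫ AMonS.map S j) * (g ≫ AMonS.map S j) = 1 := by
    rw [← MonObj.mul_comp, ← MonObj.one_comp (AMonS.map S j)]
    congr 1
    refine chi_injective (MonoidHom.ext fun m => ?_)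
    rw [chi_mul, hg', chi_one]
    show chi g (Multiplicative.ofAdd (-m.toAdd)) * chi g m = 1
    rw [← map_mul, ← ofAdd_toAdd m, ← ofAdd_add, toAdd_ofAdd, neg_add_cancel]
    exact map_one _
  have h4 := h1.act a hs (g' ≫ AMonS.map S j) (IsLocalRing.closedPoint ((G ⊗ T).left.residueField y))
  rw [← MonAct.lift_mul_act, h5, MonAct.lift_one_act] at h4
  let w : V.left := IsLocalRing.closedPoint ((G ⊗ T).left.residueField y)
  exact hpt (s.left w) ▸ (show p.left (s.left w) ∈ U from h4)

/-! ### Affine stable opens -/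

/-- An open subscheme over the base. -/
noncomputable abbrev sub (U : X.left.Opens) : Over S := Over.mk (U.ι ≫ X.hom)

/-- Its inclusion. -/
noncomputable abbrev incl (U : X.left.Opens) : sub U ⟶ X := Over.homMk U.ι rfl

instance mono_incl (U : X.left.Opens) : Mono (incl U) :=
  (Over.forget S).mono_of_mono_map (inferInstanceAs (Mono U.ι))

theorem exists_factor {U : X.left.Opens} {T : Over S} (x : T ⟶ X) (h : ∀ t, x.left t ∈ U) :
    ∃ x' : T ⟶ sub U, x' ≫ incl U = x := by
  have hr : Set.range x.left ⊆ Set.range U.ι := by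
    rintro _ ⟨t, rfl⟩
    rw [Scheme.Opens.range_ι]
    exact h t
  refine ⟨Over.homMk (IsOpenImmersion.lift U.ι x.left hr) ?_, Over.OverMorphism.ext (IsOpenImmersion.lift_fac _ _ _)⟩
  show _ ≫ U.ι ≫ X.hom = _
  rw [← Category.assoc, IsOpenImmersion.lift_fac, Over.w x]

variable {U : X.left.Opens} (hs : Stable a U)

include hs in
theorem exists_subAct : ∃ aU : AMonS S ℕ ⊗ sub U ⟶ sub U, aU ≫ incl U = (AMonS S ℕ ◁ incl U) ≫ a.act := by
  refine exists_factor _ fun t => hs ?_
  show (snd (AMonS S ℕ) X).left ((AMonS S ℕ ◁ incl U).left t) ∈ U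
  rw [← Scheme.Hom.comp_apply, ← Over.comp_left, whiskerLeft_snd, Over.comp_left, Scheme.Hom.comp_apply]
  exact ((snd (AMonS S ℕ) (sub U)).left t).2

/-- The action on a stable open. -/
noncomputable def actU : AMonS S ℕ ⊗ sub U ⟶ sub U := (exists_subAct a hs).choose

theorem lift_actU {T : Over S} (g : T ⟶ AMonS S ℕ) (x : T ⟶ sub U) :
    (lift g x ≫ actU a hs) ≫ incl U = lift g (x ≫ incl U) ≫ a.act := by
  rw [Category.assoc, actU, (exists_subAct a hs).choose_spec, lift_whiskerLeft_assoc]

variable [IsAffine (sub U).left]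

/-- The coaction. -/
noncomputable def σ : RR (sub U) →+* MonoidAlgebra (RR (sub U)) (Multiplicative ℕ) := co (sub U) (actU a hs)

theorem lift_act_appTop {T : Over S} (g : T ⟶ AMonS S ℕ) (x : T ⟶ sub U) (v : RR (sub U)) :
    (lift g x ≫ actU a hs).left.appTop v =
      ∑ m ∈ (σ a hs v).coeff.support, x.left.appTop ((σ a hs v).coeff m) * chi g m := by
  show (lift g x).left.appTop ((actU a hs).left.appTop v) = _
  rw [← theta_co (sub U) (actU a hs) v]
  conv_lhs => rw [show co (sub U) (actU a hs) v = σ a hs v from rfl, ← MonoidAlgebra.sum_coeff_single (σ a hs v),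
    Finsupp.sum]
  rw [map_sum, map_sum]
  refine Finset.sum_congr rfl fun m _ => ?_
  rw [theta_single, map_mul]
  congr 1
  · show (lift g x ≫ snd _ _).left.appTop _ = _
    rw [lift_snd]
  · erw [← chi_comp (lift g x) (fst _ (sub U))]
    rw [lift_fst]

theorem isCoaction : GradedIso.IsCoaction (σ a hs) := by
  classical
  constructor
  · intro v
    have h : lift (1 : sub U ⟶ AMonS S ℕ) (𝟙 _) ≫ actU a hs = 𝟙 _ := by
      rw [← cancel_mono (incl U), lift_actU, MonAct.lift_one_act, Category.id_comp]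
    have h2 := lift_act_appTop a hs (1 : sub U ⟶ AMonS S ℕ) (𝟙 _) v
    rw [h] at h2
    refine Eq.trans ?_ h2.symm
    refine Finset.sum_congr rfl fun m _ => ?_
    rw [chi_one, _root_.mul_one]
    rfl
  · intro v m
    let A := AMonS S ℕ
    let W : Over S := A ⊗ sub U
    let T : Over S := A ⊗ W
    let g : T ⟶ A := fst A W
    let h : T ⟶ A := snd A W ≫ fst A (sub U)
    let x : T ⟶ sub U := snd A W ≫ snd A (sub U)
    have hgh : lift (g * h) x ≫ actU a hs = lift g (lift h x ≫ actU a hs) ≫ actU a hs := by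
      rw [← cancel_mono (incl U), lift_actU, lift_actU, lift_actU, MonAct.lift_mul_act]
    have h1 := lift_act_appTop a hs (g * h) x v
    rw [hgh, lift_act_appTop a hs g _ v] at h1
    have h2 : theta ℕ W (∑ i ∈ (σ a hs v).coeff.support, MonoidAlgebra.single i
          (theta ℕ (sub U) (σ a hs ((σ a hs v).coeff i)))) =
        theta ℕ W (∑ i ∈ (σ a hs v).coeff.support, MonoidAlgebra.single i
          (theta ℕ (sub U) (MonoidAlgebra.single i ((σ a hs v).coeff i)))) := by
      rw [map_sum, map_sum]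
      refine Eq.trans (Finset.sum_congr rfl fun i _ => ?_) (h1.trans (Finset.sum_congr rfl fun i _ => ?_))
      · rw [theta_single]
        congr 1
        have hx : lift h x ≫ actU a hs = snd A W ≫ actU a hs := by
          congr 1
          simp [h, x, A, W, ← comp_lift]
        rw [hx]
        exact congrArg _ (theta_co (sub U) (actU a hs) _)
      · rw [theta_single, theta_single, chi_mul, map_mul]
        erw [← chi_comp (snd A W) (fst A (sub U))]
        simp only [g, h, x, A, W]
        rw [mul_comm (chi (fst _ _) i), ← _root_.mul_assoc]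
        rfl
    have h3 := congrArg (fun q => q.coeff m) ((theta_iso ℕ W).2.1 h2)
    simp only [MonoidAlgebra.coeff_sum, Finsupp.finsetSum_apply, MonoidAlgebra.coeff_single] at h3
    by_cases hm : m ∈ (σ a hs v).coeff.support
    · rw [Finset.sum_eq_single m (fun i _ hi => Finsupp.single_eq_of_ne hi.symm) (fun h => absurd hm h),
        Finset.sum_eq_single m (fun i _ hi => Finsupp.single_eq_of_ne hi.symm) (fun h => absurd hm h),
        Finsupp.single_eq_same, Finsupp.single_eq_same] at h3
      exact (theta_iso ℕ (sub U)).2.1 h3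
    · rw [Finsupp.notMem_support_iff.mp hm, map_zero, MonoidAlgebra.single_zero]

theorem isFixed_of_kills {T : Over S} (x : T ⟶ sub U)
    (h : ∀ v m, m ≠ 1 → x.left.appTop ((σ a hs v).coeff m) = 0) : IsFixed a (x ≫ incl U) := by
  intro T' t g
  rw [← Category.assoc, ← lift_actU a hs]
  congr 1
  refine Over.OverMorphism.ext (ext_of_isAffine (CommRingCat.hom_ext (RingHom.ext fun v => ?_)))
  refine (lift_act_appTop a hs g (t ≫ x) v).trans ?_
  show _ = t.left.appTop (x.left.appTop v)
  conv_rhs => rw [← (isCoaction a hs).counit v, Finsupp.sum, map_sum, map_sum]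
  refine Finset.sum_congr rfl fun m _ => ?_
  show t.left.appTop (x.left.appTop ((σ a hs v).coeff m)) * _ = _
  by_cases hm : m = 1
  · rw [hm, map_one (chi g), _root_.mul_one]
  · rw [h v m hm, map_zero, zero_mul]

theorem kills_of_isFixed {T : Over S} [IsAffine T.left] (x : T ⟶ sub U) (h : IsFixed a (x ≫ incl U))
    (v : RR (sub U)) (m : Multiplicative ℕ) (hm : m ≠ 1) : x.left.appTop ((σ a hs v).coeff m) = 0 := by
  classical
  let A := AMonS S ℕ
  have h1 : lift (fst A T) (snd A T ≫ x) ≫ actU a hs = snd A T ≫ x := by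
    rw [← cancel_mono (incl U), lift_actU, Category.assoc]
    exact h _ (snd A T) (fst A T)
  have h2 := lift_act_appTop a hs (fst A T) (snd A T ≫ x) v
  rw [h1] at h2
  have h3 : theta ℕ T (MonoidAlgebra.single 1 (x.left.appTop v)) =
      theta ℕ T (∑ i ∈ (σ a hs v).coeff.support, MonoidAlgebra.single i (x.left.appTop ((σ a hs v).coeff i))) := by
    rw [theta_single, map_one, _root_.mul_one, map_sum]
    refine Eq.trans ?_ (h2.trans (Finset.sum_congr rfl fun i _ => ?_))
    · rfl
    · rw [theta_single]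
      rfl
  have h4 := congrArg (fun q => q.coeff m) ((theta_iso ℕ T).2.1 h3)
  simp only [MonoidAlgebra.coeff_sum, Finsupp.finsetSum_apply, MonoidAlgebra.coeff_single] at h4
  rw [Finsupp.single_eq_of_ne hm] at h4
  by_cases hsupp : m ∈ (σ a hs v).coeff.support
  · rw [Finset.sum_eq_single m (fun i _ hi => Finsupp.single_eq_of_ne hi.symm) (fun h => absurd hsupp h),
      Finsupp.single_eq_same] at h4
    exact h4.symm
  · rw [Finsupp.notMem_support_iff.mp hsupp, map_zero]

/-- The limit on a stable affine open. -/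
noncomputable def limU : sub U ⟶ sub U := lift (toUnit _ ≫ origin) (𝟙 _) ≫ actU a hs

omit [IsAffine (sub U).left] in
theorem limU_incl : limU a hs ≫ incl U = incl U ≫ lim a := by
  rw [limU, lift_actU, Category.id_comp, comp_lim]

theorem limU_appTop (v : RR (sub U)) : (limU a hs).left.appTop v = (σ a hs v).coeff 1 := by
  classical
  refine (lift_act_appTop a hs (toUnit _ ≫ origin) (𝟙 _) v).trans ?_
  rw [Finset.sum_eq_single 1 (fun m _ hm => by rw [chi_origin, if_neg hm, mul_zero]) (fun h => by
    rw [Finsupp.notMem_support_iff.mp h, map_zero, zero_mul]), map_one (chi _), _root_.mul_one]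
  rfl

omit [IsAffine (sub U).left] in
include hs in
theorem exists_nhd (hU : IsAffineOpen U) {x : X.left} (hx : x ∈ U) {O : X.left.Opens} (hO : (lim a).left x ∈ O) :
    ∃ W : X.left.Opens, x ∈ W ∧ IsAffineOpen W ∧ Stable a W ∧ W ≤ U ∧ ∀ z ∈ W, (lim a).left z ∈ O := by
  haveI : IsAffine (sub U).left := hU
  have hmap : ∀ w, U.ι ((limU a hs).left w) = (lim a).left (U.ι w) := fun w => by
    have := congrArg (fun q => q.left w) (limU_incl a hs)
    simpa [Scheme.Hom.comp_apply] using this
  let x' : (sub U).left := ⟨x, hx⟩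
  have h0 : (limU a hs).left x' ∈ U.ι ⁻¹ᵁ O := by
    show U.ι ((limU a hs).left x') ∈ O
    rw [hmap]
    exact hO
  obtain ⟨s, hsO, hxs⟩ := (isAffineOpen_top (sub U).left).exists_basicOpen_le ⟨_, h0⟩ (Set.mem_univ _)
  let W' : (sub U).left.Opens := (limU a hs).left ⁻¹ᵁ (sub U).left.basicOpen s
  let W : X.left.Opens := U.ι ''ᵁ W'
  have hW' : IsAffineOpen W' := by
    show IsAffineOpen ((limU a hs).left ⁻¹ᵁ (sub U).left.basicOpen s)
    rw [Scheme.preimage_basicOpen_top]
    exact (isAffineOpen_top (sub U).left).basicOpen _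
  have hWiff : ∀ z, z ∈ W ↔ z ∈ U ∧ (lim a).left z ∈ U.ι ''ᵁ (sub U).left.basicOpen s := by
    intro z
    constructor
    · rintro ⟨w, hw, rfl⟩
      exact ⟨w.2, ⟨_, hw, hmap w⟩⟩
    · rintro ⟨hz, w, hw, hwz⟩
      refine ⟨⟨z, hz⟩, ?_, rfl⟩
      show (limU a hs).left ⟨z, hz⟩ ∈ (sub U).left.basicOpen s
      have : (limU a hs).left ⟨z, hz⟩ = w := U.ι.isOpenEmbedding.injective ((hmap _).trans hwz.symm)
      rwa [this]
  refine ⟨W, (hWiff x).mpr ⟨hx, ⟨_, hxs, hmap _⟩⟩, hW'.image_of_isOpenImmersion U.ι, ?_,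
    fun z hz => ((hWiff z).mp hz).1, fun z hz => ?_⟩
  · intro z hz
    obtain ⟨h1, h2⟩ := (hWiff _).mp hz
    refine (hWiff _).mpr ⟨hs h1, ?_⟩
    rw [← Scheme.Hom.comp_apply, ← Over.comp_left, act_lim, Over.comp_left, Scheme.Hom.comp_apply]
    exact h2
  · obtain ⟨-, w, hw, hwz⟩ := (hWiff z).mp hz
    rw [← hwz]
    exact hsO hw

end Groth.Agent.MagnetLib.LimitIso
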