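import Groth.Agent.MagnetLib.LimitIso

/-! The main theorem: isomorphism on fixed points, cartesian, flat near fixed points ⟹ isomorphism. -/

universe u

open CategoryTheory CategoryTheory.Limits MonoidalCategory CartesianMonoidalCategory MonObj AlgebraicGeometry
open Opposite Magnet

namespace Groth.Agent.MagnetLib.LimitIso

open H23.CharPts H23.AttrComapGrp H28 H28.MagnetAff H28.FixedDesc H28.StableFace

/-- A flat morphism is injective on local rings. -/
theorem stalkMap_injective_of_flat {X Y : Scheme.{u}} (f : X ⟶ Y) [Flat f] (x : X) :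
    Function.Injective (f.stalkMap x).hom := by
  letI := (f.stalkMap x).hom.toAlgebra
  haveI : Module.Flat (Y.presheaf.stalk (f x)) (X.presheaf.stalk x) := Flat.iff_flat_stalkMap f |>.mp ‹_› x
  haveI : IsLocalHom (algebraMap (Y.presheaf.stalk (f x)) (X.presheaf.stalk x)) :=
    inferInstanceAs (IsLocalHom (f.stalkMap x).hom)
  haveI := Module.FaithfullyFlat.of_flat_of_isLocalHom (A := Y.presheaf.stalk (f x)) (B := X.presheaf.stalk x)
  exact FaithfulSMul.algebraMap_injective (Y.presheaf.stalk (f x)) (X.presheaf.stalk x)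

/-- Flatness at a point of an open subscheme gives injectivity of the stalk map. -/
theorem stalkMap_injective_restrict {X Y X' Y' : Scheme.{u}} (f : X ⟶ Y) (g : X' ⟶ Y') (i : X' ⟶ X) (k : Y' ⟶ Y)
    [IsOpenImmersion i] [IsOpenImmersion k] (hg : g ≫ k = i ≫ f) (V : X.Opens) [Flat (V.ι ≫ f)] (x : X')
    (hx : i x ∈ V) : Function.Injective (g.stalkMap x).hom := by
  let w := (i ⁻¹ᵁ V).ι
  let x' : (i ⁻¹ᵁ V).toScheme := ⟨x, hx⟩
  haveI : Flat (w ≫ g ≫ k) := by
    rw [hg, show w ≫ i ≫ f = (i ∣_ V) ≫ (V.ι ≫ f) from by rw [← Category.assoc, ← morphismRestrict_ι, Category.assoc]]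
    infer_instance
  have h := stalkMap_injective_of_flat (w ≫ g ≫ k) x'
  rw [Scheme.Hom.stalkMap_comp, Scheme.Hom.stalkMap_comp] at h
  intro p q hpq
  obtain ⟨p', rfl⟩ := (ConcreteCategory.bijective_of_isIso (k.stalkMap (g x))).2 p
  obtain ⟨q', rfl⟩ := (ConcreteCategory.bijective_of_isIso (k.stalkMap (g x))).2 q
  exact congrArg _ (h (congrArg (w.stalkMap x').hom hpq))

variable {S : Scheme.{u}} {X Y : Over S}

theorem isIso_of_fixed (a : MonAct (AMonS S ℕ) X) (b : MonAct (AMonS S ℕ) Y)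
    (hX : ∀ x : X.left, ∃ U : X.left.Opens, x ∈ U ∧ IsAffineOpen U ∧ Stable a U)
    (hY : ∀ y : Y.left, ∃ U : Y.left.Opens, y ∈ U ∧ IsAffineOpen U ∧ Stable b U)
    (f : X ⟶ Y) (hf : MonAct.IsEquivariant a b f)
    (h1 : IsIso (MonAct.fixedPsh.map f hf))
    (h2 : IsPullback (MonAct.fixedPsh.map f hf) (MonAct.fixedPshι a) (MonAct.fixedPshι b) (yoneda.map f))
    (V₀ : X.left.Opens) [Flat (V₀.ι ≫ f.left)]
    (h3 : ∀ (T : Over S) (x : (MonAct.fixedPsh a).obj (op T)), x.1.left ⁻¹ᵁ V₀ = ⊤) :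
    IsIso f := by
  -- fixed points of `X` are those of `Y`
  have hbij : ∀ T : Over S, Function.Bijective ((MonAct.fixedPsh.map f hf).app (op T)) := fun T =>
    (ConcreteCategory.isIso_iff_bijective _).mp inferInstance
  have huniq : ∀ {T : Over S} {x x' : T ⟶ X}, IsFixed a x → IsFixed a x' → x ≫ f = x' ≫ f → x = x' :=
    fun {T x x'} hx hx' he => congrArg Subtype.val ((hbij T).1 (a₁ := ⟨x, hx⟩) (a₂ := ⟨x', hx'⟩) (Subtype.ext he))
  have hex : ∀ {T : Over S} {y : T ⟶ Y}, IsFixed b y → ∃ x : T ⟶ X, IsFixed a x ∧ x ≫ f = y := fun {T y} hy => by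
    obtain ⟨x, hx⟩ := (hbij T).2 ⟨y, hy⟩
    exact ⟨x.1, x.2, congrArg Subtype.val hx⟩
  have hcart : ∀ {T : Over S} {x : T ⟶ X}, IsFixed b (x ≫ f) → IsFixed a x := fun {T x} hx => by
    have hp := h2.map ((evaluation (Over S)ᵒᵖ (Type u)).obj (op T))
    rw [Types.isPullback_iff] at hp
    obtain ⟨z, -, hz⟩ := hp.2.2 ⟨x ≫ f, hx⟩ x rfl
    have hz' : z.1 = x := hz
    exact hz' ▸ z.2
  have hptlim : ∀ {T : Over S} {x : T ⟶ X} {t : T.left}, IsFixed a x → (lim a).left (x.left t) = x.left t :=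
    fun {T x t} hx => by rw [← Scheme.Hom.comp_apply, ← Over.comp_left, comp_lim_of_isFixed a hx]
  suffices h : IsIso f.left from haveI : IsIso ((Over.forget S).map f) := h; isIso_of_reflects_iso f (Over.forget S)
  suffices hloc : ∀ y : Y.left, ∃ V : Y.left.Opens, y ∈ V ∧ IsIso (f.left ∣_ V) by
    choose V hV hiso using hloc
    refine (IsZariskiLocalAtTarget.iff_of_iSup_eq_top (P := MorphismProperty.isomorphisms Scheme.{u}) V
      (top_le_iff.mp fun y _ => TopologicalSpace.Opens.mem_iSup.mpr ⟨y, hV y⟩)).mpr hiso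
  intro y
  obtain ⟨UY, hyUY, hUYa, hUYs⟩ := hY y
  haveI : IsAffine (sub UY).left := hUYa
  -- the lift of the limit map
  obtain ⟨ξ, hξfix, hξf⟩ := hex (isFixed_lim b (incl UY))
  have hξlim : ∀ w, ξ.left w = ξ.left ((limU b hUYs).left w) := fun w => by
    rw [← Scheme.Hom.comp_apply, ← Over.comp_left]
    refine congrArg (fun q : sub UY ⟶ X => q.left w) ?_
    refine huniq hξfix (hξfix.comp _) ?_
    rw [Category.assoc, hξf, ← Category.assoc, limU_incl, comp_lim_of_isFixed b (isFixed_lim b (incl UY))]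
  have hflim : ∀ w, f.left (ξ.left w) = (lim b).left (UY.ι w) := fun w => by
    rw [← Scheme.Hom.comp_apply, ← Scheme.Hom.comp_apply, ← Over.comp_left, hξf]
    rfl
  let yU : (sub UY).left := ⟨y, hyUY⟩
  obtain ⟨UX, hxUX, hUXa, hUXs⟩ := hX (ξ.left yU)
  have hξfixpt : (lim a).left (ξ.left yU) = ξ.left yU := hptlim hξfix
  obtain ⟨W1, hxW1, hW1a, hW1s, -, hW1O⟩ := exists_nhd a hUXs hUXa hxUX (O := f.left ⁻¹ᵁ UY) (by
    rw [hξfixpt]
    show f.left (ξ.left yU) ∈ UY
    rw [hflim]
    exact lim_mem b hUYs hyUY)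
  have hW1le : ∀ z ∈ W1, f.left z ∈ UY := fun z hz => mem_of_lim_mem b hUYs (by
    rw [← Scheme.Hom.comp_apply, ← Over.comp_left, ← lim_comp a hf, Over.comp_left, Scheme.Hom.comp_apply]
    exact hW1O z hz)
  let yL : (sub UY).left := ⟨(lim b).left y, lim_mem b hUYs hyUY⟩
  have hmap : ∀ w, UY.ι ((limU b hUYs).left w) = (lim b).left (UY.ι w) := fun w => by
    have := congrArg (fun q => q.left w) (limU_incl b hUYs)
    simpa [Scheme.Hom.comp_apply] using this
  obtain ⟨V, hyV, hVa, hVs, hVle, hVO⟩ := exists_nhd b hUYs hUYa hyUY (O := UY.ι ''ᵁ (ξ.left ⁻¹ᵁ W1)) (by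
    refine ⟨(limU b hUYs).left yU, ?_, hmap yU⟩
    show ξ.left _ ∈ W1
    rw [← hξlim]
    exact hxW1)
  refine ⟨V, hyV, ?_⟩
  let U : X.left.Opens := f.left ⁻¹ᵁ V
  have hUW1 : ∀ x ∈ U, x ∈ W1 := fun x hx => by
    refine mem_of_lim_mem a hW1s ?_
    let P := StableOpen.fieldPt X x
    obtain ⟨q, hq⟩ := exists_factor (U := UY) (pt X x ≫ f) fun v => by
      have : (pt X x).left v = x := by
        have : (pt X x).left v ∈ Set.range (X.left.fromSpecResidueField x) := ⟨v, rfl⟩
        rwa [Scheme.range_fromSpecResidueField] at this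
      show f.left ((pt X x).left v) ∈ UY
      rw [this]
      exact hVle hx
    let v₀ : P.left := IsLocalRing.closedPoint (X.left.residueField x)
    have hv : (pt X x).left v₀ = x := by
      have : (pt X x).left v₀ ∈ Set.range (X.left.fromSpecResidueField x) := ⟨v₀, rfl⟩
      rwa [Scheme.range_fromSpecResidueField] at this
    have h : pt X x ≫ lim a = q ≫ ξ := huniq (isFixed_lim a _) (hξfix.comp q) (by
      rw [Category.assoc, lim_comp a hf, ← Category.assoc, ← hq, Category.assoc, Category.assoc, hξf])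
    have h' := congrArg (fun r => r.left v₀) h
    simp only [Over.comp_left, Scheme.Hom.comp_apply] at h'
    rw [hv] at h'
    rw [h', hξlim]
    obtain ⟨w, hw, hwe⟩ := hVO (f.left x) hx
    have hqe : UY.ι (q.left v₀) = f.left x := by
      have h0 : (q ≫ incl UY).left v₀ = (pt X x ≫ f).left v₀ := congrArg (fun r => r.left v₀) hq
      exact h0.trans (congrArg f.left hv)
    have : (limU b hUYs).left (q.left v₀) = w := UY.ι.isOpenEmbedding.injective ((hmap _).trans ((congrArg (lim b).left hqe).trans hwe.symm))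
    rw [this]
    exact hw
  have hUs : Stable a U := fun z hz => by
    show f.left (a.act.left z) ∈ V
    rw [← Scheme.Hom.comp_apply, ← Over.comp_left, hf, Over.comp_left, Scheme.Hom.comp_apply]
    refine hVs ?_
    show (snd _ Y).left ((AMonS S ℕ ◁ f).left z) ∈ V
    rw [← Scheme.Hom.comp_apply, ← Over.comp_left, whiskerLeft_snd, Over.comp_left, Scheme.Hom.comp_apply]
    exact hz
  have hUa : IsAffineOpen U := by
    haveI : IsAffine W1.toScheme := hW1a
    let gW : W1.toScheme ⟶ UY.toScheme := IsOpenImmersion.lift UY.ι (W1.ι ≫ f.left) (by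
      rintro _ ⟨z, rfl⟩
      rw [Scheme.Opens.range_ι]
      exact hW1le _ z.2)
    haveI : IsAffine UY.toScheme := hUYa
    have hgW : gW ≫ UY.ι = W1.ι ≫ f.left := IsOpenImmersion.lift_fac _ _ _
    have hVsub : IsAffineOpen (UY.ι ⁻¹ᵁ V) := hVa.preimage_of_isOpenImmersion UY.ι (by
      rw [Scheme.Opens.opensRange_ι]
      exact hVle)
    haveI : IsAffineHom gW := isAffineHom_of_isAffine gW
    have h' := (hVsub.preimage gW).image_of_isOpenImmersion W1.ι
    have he : W1.ι ''ᵁ (gW ⁻¹ᵁ UY.ι ⁻¹ᵁ V) = U := by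
      rw [← Scheme.Hom.comp_preimage, hgW, Scheme.Hom.comp_preimage, Scheme.Hom.image_preimage_eq_opensRange_inf,
        Scheme.Opens.opensRange_ι, inf_eq_right]
      exact hUW1
    exact he ▸ h'
  haveI : IsAffine (sub U).left := hUa
  haveI : IsAffine (sub V).left := hVa
  let g : sub U ⟶ sub V := Over.homMk (f.left ∣_ V) (by
    show (f.left ∣_ V) ≫ V.ι ≫ Y.hom = U.ι ≫ X.hom
    rw [← Category.assoc, morphismRestrict_ι, Category.assoc, Over.w f])
  have hgi : g ≫ incl V = incl U ≫ f := Over.OverMorphism.ext (morphismRestrict_ι _ _)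
  have hgact : actU a hUs ≫ g = (AMonS S ℕ ◁ g) ≫ actU b hVs := by
    rw [← cancel_mono (incl V), Category.assoc, hgi, ← Category.assoc, Category.assoc _ (actU b hVs) (incl V),
      actU, actU, (exists_subAct a hUs).choose_spec, (exists_subAct b hVs).choose_spec, Category.assoc, hf,
      ← MonoidalCategory.whiskerLeft_comp_assoc, ← MonoidalCategory.whiskerLeft_comp_assoc, hgi]
  let φ : RR (sub V) →+* RR (sub U) := g.left.appTop.hom
  have hφ : ∀ v m, (σ a hUs (φ v)).coeff m = φ ((σ b hVs v).coeff m) := fun v m => by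
    have h := RingHom.congr_fun ((co_comp (sub U) (actU a hUs) g).symm.trans
      (congrArg (co (sub U)) hgact |>.trans (co_whisker (sub V) g (actU b hVs)))) v
    refine (congrArg (fun q => q.coeff m) h).trans ?_
    exact MonoidAlgebra.coeff_mapRingHom _ _ _
  -- the inverse on fixed loci
  obtain ⟨j, hj⟩ := exists_factor (U := UY) (incl V) fun v => hVle v.2
  obtain ⟨ξ', hξ'⟩ := exists_factor (U := U) (j ≫ ξ) fun v => by
    show f.left (ξ.left (j.left v)) ∈ V
    rw [hflim, ← Scheme.Hom.comp_apply j.left, show j.left ≫ UY.ι = V.ι from congrArg Over.Hom.left hj]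
    exact lim_mem b hVs v.2
  have hξ'g : ξ' ≫ g = limU b hVs := by
    rw [← cancel_mono (incl V), Category.assoc, hgi, ← Category.assoc, hξ', Category.assoc, hξf, limU_incl,
      ← Category.assoc, hj]
  have hgξ' : g ≫ ξ' = limU a hUs := by
    rw [← cancel_mono (incl U), Category.assoc, hξ', limU_incl]
    refine huniq ((hξfix.comp j).comp g) (isFixed_lim a _) ?_
    rw [Category.assoc, Category.assoc, hξf, ← Category.assoc j, hj, Category.assoc, lim_comp a hf, ← Category.assoc g,
      hgi, Category.assoc]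
  have hA := isCoaction a hUs
  have hB := isCoaction b hVs
  have hsurj : Function.Surjective φ := by
    refine GradedIso.surjective hA hB φ hφ ξ'.left.appTop.hom (fun u => ?_) (fun u m hm => ?_)
    · rw [← limU_appTop a hUs, ← hgξ']
      rfl
    · let I : Ideal (RR (sub U)) := Ideal.span {x | ∃ v n, n ≠ 1 ∧ φ ((σ b hVs v).coeff n) = x}
      let C := CommRingCat.of (RR (sub U) ⧸ I)
      obtain ⟨x₀, hx₀⟩ := exists_hom_of_appTop (W := Spec C) (V := (sub U).left)
        ((Scheme.ΓSpecIso C).inv.hom.comp (Ideal.Quotient.mk I))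
      let T : Over S := Over.mk (x₀ ≫ (sub U).hom)
      haveI : IsAffine T.left := inferInstanceAs (IsAffine (Spec C))
      let x : T ⟶ sub U := Over.homMk x₀ rfl
      have h' : IsFixed b ((x ≫ g) ≫ incl V) := isFixed_of_kills b hVs _ fun v n hn => by
        show x₀.appTop (φ ((σ b hVs v).coeff n)) = 0
        rw [hx₀]
        show (Scheme.ΓSpecIso C).inv (Ideal.Quotient.mk I _) = 0
        rw [Ideal.Quotient.eq_zero_iff_mem.mpr (show φ ((σ b hVs v).coeff n) ∈ I from Ideal.subset_span ⟨v, n, hn, rfl⟩)]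
        exact map_zero _
      rw [Category.assoc, hgi, ← Category.assoc] at h'
      have h := kills_of_isFixed a hUs x (hcart h') u m hm
      rw [show x.left.appTop _ = x₀.appTop _ from rfl, hx₀] at h
      exact Ideal.Quotient.eq_zero_iff_mem.mp
        ((ConcreteCategory.bijective_of_isIso (Scheme.ΓSpecIso C).inv).1 (h.trans (map_zero _).symm))
  have hinj : Function.Injective φ := by
    refine GradedIso.injective hB φ hφ fun d hd p hp => ?_
    let hT := isAffineOpen_top (sub V).left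
    let w : (sub V).left := hT.fromSpec ⟨p, hp⟩
    let z : (sub U).left := ξ'.left w
    have hzV₀ : U.ι z ∈ V₀ := by
      have := h3 (sub V) ⟨ξ' ≫ incl U, hξ' ▸ hξfix.comp j⟩
      exact (show w ∈ (ξ' ≫ incl U).left ⁻¹ᵁ V₀ by rw [this]; trivial)
    have hst := stalkMap_injective_restrict f.left g.left U.ι V.ι (morphismRestrict_ι _ _) V₀ z hzV₀
    have hgerm : (sub V).left.presheaf.germ ⊤ (g.left z) trivial d = 0 := by
      apply hst
      rw [map_zero]
      refine (Scheme.Hom.germ_stalkMap_apply g.left ⊤ z trivial d).trans ?_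
      rw [show g.left.app ⊤ d = φ d from rfl, hd]
      exact map_zero _
    letI := TopCat.Presheaf.algebra_section_stalk (sub V).left.presheaf (U := ⊤) ⟨g.left z, trivial⟩
    haveI := hT.isLocalization_stalk ⟨g.left z, trivial⟩
    obtain ⟨s, hs⟩ := (IsLocalization.map_eq_zero_iff (hT.primeIdealOf ⟨g.left z, trivial⟩).asIdeal.primeCompl
      ((sub V).left.presheaf.stalk (g.left z)) d).mp hgerm
    refine ⟨s.1, hs, fun hsp => ?_⟩
    have hu : g.left z ∈ (sub V).left.basicOpen s.1 := by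
      rw [Scheme.mem_basicOpen_top]
      exact IsLocalization.map_units ((sub V).left.presheaf.stalk (g.left z)) s
    have hw : w ∈ (sub V).left.basicOpen ((σ b hVs s.1).coeff 1) := by
      rw [← limU_appTop b hVs, ← Scheme.preimage_basicOpen_top]
      show (limU b hVs).left w ∈ (sub V).left.basicOpen s.1
      rw [← hξ'g, Over.comp_left, Scheme.Hom.comp_apply]
      exact hu
    have hw' : (⟨p, hp⟩ : PrimeSpectrum _) ∈ hT.fromSpec ⁻¹ᵁ (sub V).left.basicOpen ((σ b hVs s.1).coeff 1) := hw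
    rw [hT.fromSpec_preimage_basicOpen] at hw'
    exact hw' hsp
  haveI : IsIso g.left.appTop := (ConcreteCategory.isIso_iff_bijective _).mpr ⟨hinj, hsurj⟩
  haveI : IsAffine (f.left ⁻¹ᵁ V).toScheme := hUa
  haveI : IsAffine V.toScheme := hVa
  exact (HasAffineProperty.iff_of_isAffine (P := MorphismProperty.isomorphisms Scheme.{u}) (f := f.left ∣_ V)).mpr
    ⟨inferInstance, ‹IsIso g.left.appTop›⟩

end Groth.Agent.MagnetLib.LimitIso
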